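import Groth.Agent.UnivThick.Basic
import Groth.Agent.FSmooth.Thick
import Groth.Agent.S9426
import Mathlib

/-!
# Existence of universal first order thickenings
-/

set_option autoImplicit false
set_option linter.style.haveILetI false
set_option backward.isDefEq.respectTransparency false

universe u

open CategoryTheory CategoryTheory.Limits AlgebraicGeometry TopologicalSpace

namespace Groth.Agent.UnivThick

variable {X Z : Scheme.{u}}

/-- Universal thickenings over an open of the base are universal over the base. -/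
theorem extend_target {W Y Z' : Scheme.{u}} {h₀ : Z ⟶ W} {i : Z ⟶ Z'} {k : Z' ⟶ W}
    (hu : OmegaSh.IsUnivThickening h₀ i k) (g : W ⟶ Y) [IsOpenImmersion g] :
    OmegaSh.IsUnivThickening (h₀ ≫ g) i (k ≫ g) := by
  obtain ⟨hi, hik, huniv⟩ := hu
  refine ⟨hi, by rw [reassoc_of% hik], fun T T' j b a hj w => ?_⟩
  have hr : Set.range b ⊆ Set.range g := range_subset hj b fun t => by
    rw [← Scheme.Hom.comp_apply, w, ← Category.assoc, Scheme.Hom.comp_apply]
    exact Set.mem_range_self _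
  obtain ⟨c, ⟨hc1, hc2⟩, hcu⟩ := huniv T T' j (IsOpenImmersion.lift g b hr) a hj
    (by rw [← cancel_mono g, Category.assoc, IsOpenImmersion.lift_fac, w, Category.assoc])
  refine ⟨c, ⟨hc1, by rw [reassoc_of% hc2, IsOpenImmersion.lift_fac]⟩, fun c' hc' => hcu c' ⟨hc'.1, ?_⟩⟩
  rw [← cancel_mono g, Category.assoc, IsOpenImmersion.lift_fac, hc'.2]

/-- Transport along an isomorphism of the source. -/
theorem iso_source {Z₁ Y Z' : Scheme.{u}} {h₁ : Z₁ ⟶ Y} {i : Z₁ ⟶ Z'} {k : Z' ⟶ Y}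
    (hu : OmegaSh.IsUnivThickening h₁ i k) (e : Z ≅ Z₁) :
    OmegaSh.IsUnivThickening (e.hom ≫ h₁) (e.hom ≫ i) k := by
  obtain ⟨hi, hik, huniv⟩ := hu
  refine ⟨thick_of_isPullback (IsPullback.of_horiz_isIso ⟨(Category.comp_id _).symm.trans rfl⟩ :
    IsPullback e.hom (e.hom ≫ i) i (𝟙 _)).flip hi, by rw [Category.assoc, hik], fun T T' j b a hj w => ?_⟩
  obtain ⟨c, ⟨hc1, hc2⟩, hcu⟩ := huniv T T' j b (a ≫ e.hom) hj (by rw [w, Category.assoc])
  exact ⟨c, ⟨by rw [hc1, Category.assoc], hc2⟩, fun c' hc' => hcu c' ⟨by rw [hc'.1, Category.assoc], hc'.2⟩⟩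

variable (h : Z ⟶ X)

/-- A universal thickening over an open of `Z`. -/
structure Datum (U : Z.Opens) where
  /-- the thickening -/
  Zt : Scheme.{u}
  /-- the closed immersion -/
  i : (U : Scheme.{u}) ⟶ Zt
  /-- the map to the base -/
  k : Zt ⟶ X
  univ : OmegaSh.IsUnivThickening (U.ι ≫ h) i k

variable {h}

theorem Datum.restrict {U U' : Z.Opens} (D : Datum h U) (e : U' ≤ U) :
    ∃ (O : D.Zt.Opens) (i' : (U' : Scheme.{u}) ⟶ (O : Scheme.{u})),
      i' ≫ O.ι = Z.homOfLE e ≫ D.i ∧ OmegaSh.IsUnivThickening (U'.ι ≫ h) i' (O.ι ≫ D.k) := by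
  obtain ⟨hi, hik, huniv⟩ := D.univ
  obtain ⟨O, hO⟩ := exists_preimage_eq hi (Z.homOfLE e).opensRange
  have hr : Set.range (Z.homOfLE e ≫ D.i) ⊆ Set.range O.ι := by
    rintro _ ⟨z, rfl⟩
    rw [Scheme.Opens.range_ι, Scheme.Hom.comp_apply]
    exact (hO.ge ⟨z, rfl⟩ : Z.homOfLE e z ∈ D.i ⁻¹ᵁ O)
  let i' := IsOpenImmersion.lift O.ι (Z.homOfLE e ≫ D.i) hr
  have hi' : i' ≫ O.ι = Z.homOfLE e ≫ D.i := IsOpenImmersion.lift_fac _ _ _
  have hsq : IsPullback i' (Z.homOfLE e) O.ι D.i :=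
    IsOpenImmersion.isPullback _ _ _ _ hi'.symm (by rw [Scheme.Opens.opensRange_ι, hO])
  refine ⟨O, i', hi', thick_of_isPullback hsq hi, ?_, fun T T' j b a hj w => ?_⟩
  · rw [reassoc_of% hi', hik, Scheme.homOfLE_ι_assoc]
  obtain ⟨c, ⟨hc1, hc2⟩, hcu⟩ := huniv T T' j b (a ≫ Z.homOfLE e) hj
    (by rw [w, Category.assoc, Scheme.homOfLE_ι_assoc])
  have hcr : Set.range c ⊆ Set.range O.ι := range_subset hj c fun t => by
    rw [← Scheme.Hom.comp_apply, hc1, Category.assoc, ← hi', ← Category.assoc, Scheme.Hom.comp_apply]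
    exact Set.mem_range_self _
  refine ⟨IsOpenImmersion.lift O.ι c hcr, ⟨?_, by rw [IsOpenImmersion.lift_fac_assoc, hc2]⟩, fun c' hc' => ?_⟩
  · rw [← cancel_mono O.ι, Category.assoc, IsOpenImmersion.lift_fac, hc1, Category.assoc, Category.assoc, hi']
  · rw [← cancel_mono O.ι, IsOpenImmersion.lift_fac]
    exact hcu _ ⟨by rw [reassoc_of% hc'.1, hi', Category.assoc], by rw [Category.assoc, hc'.2]⟩

theorem exists_datum [FormallyUnramified h] (z : Z) : ∃ U : Z.Opens, z ∈ U ∧ Nonempty (Datum h U) := by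
  obtain ⟨V, hV, hzV, -⟩ := exists_isAffineOpen_mem_and_subset (X := X) (x := h z) (U := ⊤) trivial
  obtain ⟨U, hU, hzU, hUV⟩ := exists_isAffineOpen_mem_and_subset (X := Z) (x := z) (U := h ⁻¹ᵁ V) hzV
  have e : U ≤ h ⁻¹ᵁ V := hUV
  have hφ := HasRingHomProperty.appLE (P := @FormallyUnramified) h ‹_› ⟨V, hV⟩ ⟨U, hU⟩ e
  letI : Algebra Γ(X, V) Γ(Z, U) := (h.appLE V U e).hom.toAlgebra
  haveI : Algebra.FormallyUnramified Γ(X, V) Γ(Z, U) := RingHom.formallyUnramified_algebraMap.mp hφ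
  obtain ⟨B', _, _, π, hπ⟩ := Groth.Agent.S9426.result Γ(X, V) Γ(Z, U)
  have hsq : ∀ x y, π.toRingHom x = 0 → π.toRingHom y = 0 → x * y = 0 := fun x y hx hy => by
    rw [← Ideal.mem_bot, ← hπ.2.1, pow_two]
    exact Ideal.mul_mem_mul hx hy
  have hi : MoreMor.IsFirstOrderThickening (Spec.map (CommRingCat.ofHom π.toRingHom)) :=
    ⟨⟨IsClosedImmersion.spec_of_surjective _ hπ.1, ⟨Groth.FSmooth.surjective_SpecMap _ hπ.1 hsq⟩⟩,
      Groth.FSmooth.ker_SpecMap_sq _ hsq⟩
  have h1 := iso_source (extend_target (isUnivThickening_spec π hπ hi) hV.fromSpec) hU.isoSpec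
  have e1 : hU.isoSpec.hom ≫ Spec.map (CommRingCat.ofHom (algebraMap Γ(X, V) Γ(Z, U))) ≫ hV.fromSpec = U.ι ≫ h := by
    rw [show CommRingCat.ofHom (algebraMap Γ(X, V) Γ(Z, U)) = h.appLE V U e from rfl,
      hV.SpecMap_appLE_fromSpec h hU e, ← Category.assoc, hU.isoSpec_hom_fromSpec]
  rw [e1] at h1
  exact ⟨U, hzU, ⟨⟨_, _, _, h1⟩⟩⟩

variable (h) in
/-- Opens of `Z` over which a universal thickening exists. -/
abbrev Good : Type u := {U : Z.Opens // Nonempty (Datum h U)}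

/-- A choice of universal thickening. -/
noncomputable def dat (U : Good h) : Datum h U.1 := U.2.some

theorem good_of_le {U' : Z.Opens} (U : Good h) (e : U' ≤ U.1) : Nonempty (Datum h U') := by
  obtain ⟨O, i', -, hu⟩ := (dat U).restrict e
  exact ⟨⟨_, _, _, hu⟩⟩

theorem existsUnique_trans {U' U : Good h} (e : U' ≤ U) :
    ∃! m : (dat U').Zt ⟶ (dat U).Zt, (dat U').i ≫ m = Z.homOfLE e ≫ (dat U).i ∧ m ≫ (dat U).k = (dat U').k :=
  (dat U).univ.2.2 _ _ (dat U').i (dat U').k (Z.homOfLE e) (dat U').univ.1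
    (by rw [(dat U').univ.2.1, Scheme.homOfLE_ι_assoc])

/-- The transition map. -/
noncomputable def trans {U' U : Good h} (e : U' ≤ U) : (dat U').Zt ⟶ (dat U).Zt :=
  (existsUnique_trans e).choose

@[reassoc]
theorem i_trans {U' U : Good h} (e : U' ≤ U) : (dat U').i ≫ trans e = Z.homOfLE e ≫ (dat U).i :=
  (existsUnique_trans e).choose_spec.1.1

@[reassoc]
theorem trans_k {U' U : Good h} (e : U' ≤ U) : trans e ≫ (dat U).k = (dat U').k :=
  (existsUnique_trans e).choose_spec.1.2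

theorem trans_eq {U' U : Good h} (e : U' ≤ U) {m : (dat U').Zt ⟶ (dat U).Zt}
    (h1 : (dat U').i ≫ m = Z.homOfLE e ≫ (dat U).i) (h2 : m ≫ (dat U).k = (dat U').k) : trans e = m :=
  ((existsUnique_trans e).choose_spec.2 m ⟨h1, h2⟩).symm

theorem isOpenImmersion_trans {U' U : Good h} (e : U' ≤ U) : IsOpenImmersion (trans e) := by
  obtain ⟨O, i', hi', hu⟩ := (dat U).restrict (U' := U'.1) e
  obtain ⟨n, ⟨hn1, hn2⟩, -⟩ := (dat U').univ.2.2 _ _ i' (O.ι ≫ (dat U).k) (𝟙 _) hu.1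
    (by rw [hu.2.1, Category.id_comp])
  obtain ⟨m₀, ⟨hm1, hm2⟩, -⟩ := hu.2.2 _ _ (dat U').i (dat U').k (𝟙 _) (dat U').univ.1
    (by rw [(dat U').univ.2.1, Category.id_comp])
  rw [Category.id_comp] at hn1 hm1
  have h1 : n ≫ m₀ = 𝟙 _ := (hu.2.2 _ _ i' (O.ι ≫ (dat U).k) (𝟙 _) hu.1 (by rw [hu.2.1, Category.id_comp])).unique
    ⟨by rw [reassoc_of% hn1, hm1, Category.id_comp], by rw [Category.assoc, hm2, hn2]⟩
    ⟨by rw [Category.id_comp, Category.comp_id], Category.id_comp _⟩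
  have h2 : m₀ ≫ n = 𝟙 _ :=
    ((dat U').univ.2.2 _ _ (dat U').i (dat U').k (𝟙 _) (dat U').univ.1
      (by rw [(dat U').univ.2.1, Category.id_comp])).unique
    ⟨by rw [reassoc_of% hm1, hn1, Category.id_comp], by rw [Category.assoc, hn2, hm2]⟩
    ⟨by rw [Category.id_comp, Category.comp_id], Category.id_comp _⟩
  haveI : IsIso m₀ := ⟨n, h2, h1⟩
  rw [trans_eq e (m := m₀ ≫ O.ι) (by rw [reassoc_of% hm1, hi']) (by rw [Category.assoc, hm2])]
  infer_instance

variable (h) in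
/-- The diagram of local thickenings. -/
noncomputable def diagram : Good h ⥤ Scheme.{u} where
  obj U := (dat U).Zt
  map f := trans (leOfHom f)
  map_id U := trans_eq _ (by simp) (Category.id_comp _)
  map_comp {U V W} f g := trans_eq _
    (by rw [i_trans_assoc, i_trans, ← Category.assoc, Scheme.homOfLE_homOfLE])
    (by rw [Category.assoc, trans_k, trans_k])

instance {U' U : Good h} (f : U' ⟶ U) : IsOpenImmersion ((diagram h).map f) :=
  isOpenImmersion_trans (leOfHom f)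

instance : (diagram h ⋙ Scheme.forget).IsLocallyDirected := by
  refine ⟨fun {Ui Uj Uk} fi fj xi xj hx => ?_⟩
  obtain ⟨zi, rfl⟩ := (dat Ui).univ.1.1.2.surj xi
  obtain ⟨zj, rfl⟩ := (dat Uj).univ.1.1.2.surj xj
  have hx' : trans (leOfHom fi) ((dat Ui).i zi) = trans (leOfHom fj) ((dat Uj).i zj) := hx
  rw [← Scheme.Hom.comp_apply, ← Scheme.Hom.comp_apply, i_trans, i_trans, Scheme.Hom.comp_apply,
    Scheme.Hom.comp_apply] at hx'
  haveI := (dat Uk).univ.1.1.1
  have hz := congrArg Subtype.val ((dat Uk).i.isClosedEmbedding.injective hx')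
  simp only [Scheme.homOfLE_apply] at hz
  let W : Good h := ⟨Ui.1 ⊓ Uj.1, good_of_le Ui inf_le_left⟩
  refine ⟨W, homOfLE (show W ≤ Ui from (inf_le_left : Ui.1 ⊓ Uj.1 ≤ Ui.1)),
    homOfLE (show W ≤ Uj from (inf_le_right : Ui.1 ⊓ Uj.1 ≤ Uj.1)),
    (dat W).i ⟨zi.1, zi.2, hz ▸ zj.2⟩, ?_, ?_⟩
  · show trans _ ((dat W).i _) = _
    rw [← Scheme.Hom.comp_apply, i_trans, Scheme.Hom.comp_apply]
    congr 1
    exact Subtype.ext (Scheme.homOfLE_apply _ _)
  · show trans _ ((dat W).i _) = _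
    rw [← Scheme.Hom.comp_apply, i_trans, Scheme.Hom.comp_apply]
    congr 1
    exact Subtype.ext ((Scheme.homOfLE_apply _ _).trans hz)

section Main

variable (h) [FormallyUnramified h]

/-- The cover of `Z` by the good opens. -/
noncomputable def goodCover : Z.OpenCover :=
  Z.openCoverOfIsOpenCover (fun U : Good h => U.1) (IsOpenCover.mk (eq_top_iff.mpr fun z _ => by
    obtain ⟨U, hz, hU⟩ := exists_datum (h := h) z
    exact Opens.mem_iSup.mpr ⟨⟨U, hU⟩, hz⟩))

/-- The glued map from `Z`. -/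
noncomputable def gluedι : Z ⟶ colimit (diagram h) :=
  (goodCover h).glueMorphisms (fun U : Good h => (dat U).i ≫ colimit.ι (diagram h) U) fun U V => by
    change pullback.fst U.1.ι V.1.ι ≫ _ = pullback.snd U.1.ι V.1.ι ≫ _
    let W : Good h := ⟨U.1 ⊓ V.1, good_of_le U inf_le_left⟩
    have hWU : W ≤ U := (inf_le_left : U.1 ⊓ V.1 ≤ U.1)
    have hWV : W ≤ V := (inf_le_right : U.1 ⊓ V.1 ≤ V.1)
    have hr : Set.range (pullback.fst U.1.ι V.1.ι ≫ U.1.ι) ⊆ Set.range W.1.ι := by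
      rintro _ ⟨x, rfl⟩
      rw [Scheme.Opens.range_ι]
      refine ⟨?_, ?_⟩
      · rw [Scheme.Hom.comp_apply]
        exact (pullback.fst U.1.ι V.1.ι x).2
      · rw [pullback.condition, Scheme.Hom.comp_apply]
        exact (pullback.snd U.1.ι V.1.ι x).2
    let c := IsOpenImmersion.lift W.1.ι _ hr
    have hc1 : c ≫ Z.homOfLE hWU = pullback.fst U.1.ι V.1.ι := by
      rw [← cancel_mono U.1.ι, Category.assoc, Scheme.homOfLE_ι]
      exact IsOpenImmersion.lift_fac _ _ _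
    have hc2 : c ≫ Z.homOfLE hWV = pullback.snd U.1.ι V.1.ι := by
      rw [← cancel_mono V.1.ι, Category.assoc, Scheme.homOfLE_ι, ← pullback.condition]
      exact IsOpenImmersion.lift_fac _ _ _
    rw [← hc1, ← hc2, Category.assoc, Category.assoc, ← i_trans_assoc hWU, ← i_trans_assoc hWV]
    congr 2
    exact (colimit.w (diagram h) (homOfLE hWU)).trans (colimit.w (diagram h) (homOfLE hWV)).symm

@[reassoc]
theorem ι_gluedι (U : Good h) : U.1.ι ≫ gluedι h = (dat U).i ≫ colimit.ι (diagram h) U :=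
  Scheme.Cover.ι_glueMorphisms (goodCover h) _ _ U

/-- The glued map to `X`. -/
noncomputable def gluedk : colimit (diagram h) ⟶ X :=
  colimit.desc (diagram h)
    { pt := X
      ι := { app := fun U => (dat U).k
             naturality := fun _ _ f => (trans_k (leOfHom f)).trans (Category.comp_id _).symm } }

@[reassoc]
theorem ι_gluedk (U : Good h) : colimit.ι (diagram h) U ≫ gluedk h = (dat U).k :=
  colimit.ι_desc _ _

theorem gluedι_gluedk : gluedι h ≫ gluedk h = h := by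
  refine (goodCover h).hom_ext _ _ fun U => ?_
  change U.1.ι ≫ _ = U.1.ι ≫ _
  rw [ι_gluedι_assoc, ι_gluedk, (dat U).univ.2.1]

theorem mem_of_gluedι_mem_range (U : Good h) (z : Z)
    (hz : gluedι h z ∈ Set.range (colimit.ι (diagram h) U)) : z ∈ U.1 := by
  obtain ⟨x, hx⟩ := hz
  obtain ⟨zu, rfl⟩ := (dat U).univ.1.1.2.surj x
  obtain ⟨V, hzV, hV⟩ := exists_datum (h := h) z
  let V' : Good h := ⟨V, hV⟩
  have h1 : gluedι h z = colimit.ι (diagram h) V' ((dat V').i ⟨z, hzV⟩) := by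
    exact congr($(ι_gluedι h V') (⟨z, hzV⟩ : (V'.1 : Scheme.{u})))
  rw [h1] at hx
  obtain ⟨W, fU, fV, y, hyU, hyV⟩ := (Scheme.IsLocallyDirected.ι_eq_ι_iff (diagram h)).mp hx
  obtain ⟨w, rfl⟩ := (dat W).univ.1.1.2.surj y
  change trans (leOfHom fV) ((dat W).i w) = _ at hyV
  rw [← Scheme.Hom.comp_apply, i_trans, Scheme.Hom.comp_apply] at hyV
  haveI := (dat V').univ.1.1.1
  have h2 := congrArg Subtype.val ((dat V').i.isClosedEmbedding.injective hyV)
  rw [Scheme.homOfLE_apply] at h2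
  have h3 : w.1 = z := h2
  exact h3 ▸ (leOfHom fU) w.2

theorem isPullback_gluedι (U : Good h) :
    IsPullback (dat U).i U.1.ι (colimit.ι (diagram h) U) (gluedι h) := by
  refine IsOpenImmersion.isPullback _ _ _ _ (ι_gluedι h U) ?_
  rw [Scheme.Opens.opensRange_ι]
  refine TopologicalSpace.Opens.ext (Set.ext fun z => ⟨mem_of_gluedι_mem_range h U z, fun hz => ?_⟩)
  show gluedι h z ∈ Set.range (colimit.ι (diagram h) U)
  exact ⟨(dat U).i ⟨z, hz⟩, congr($((ι_gluedι h U).symm) (⟨z, hz⟩ : (U.1 : Scheme.{u})))⟩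

theorem thick_gluedι : MoreMor.IsFirstOrderThickening (gluedι h) := by
  have hc : IsClosedImmersion (gluedι h) := by
    refine IsZariskiLocalAtTarget.of_openCover (P := @IsClosedImmersion)
      (Scheme.IsLocallyDirected.openCover (diagram h)) fun U => ?_
    change IsClosedImmersion (pullback.snd (gluedι h) (colimit.ι (diagram h) U))
    rw [← (isPullback_gluedι h U).flip.isoPullback_inv_snd]
    haveI := (dat U).univ.1.1.1
    infer_instance
  have hs : Surjective (gluedι h) := ⟨fun x => by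
    obtain ⟨U, xU, rfl⟩ := Scheme.IsLocallyDirected.ι_jointly_surjective (diagram h) x
    obtain ⟨zu, rfl⟩ := (dat U).univ.1.1.2.surj xU
    exact ⟨U.1.ι zu, by rw [← Scheme.Hom.comp_apply, ι_gluedι, Scheme.Hom.comp_apply]; rfl⟩⟩
  refine ⟨⟨hc, hs⟩, ?_⟩
  refine Scheme.IdealSheafData.ext_of_iSup_eq_top
    (fun p : Σ U : Good h, (dat U).Zt.affineOpens =>
      ⟨colimit.ι (diagram h) p.1 ''ᵁ p.2.1, p.2.2.image_of_isOpenImmersion _⟩) ?_ ?_
  · refine eq_top_iff.mpr fun x _ => ?_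
    obtain ⟨U, xU, rfl⟩ := Scheme.IsLocallyDirected.ι_jointly_surjective (diagram h) x
    obtain ⟨W, hW, hxW, -⟩ := exists_isAffineOpen_mem_and_subset (X := (dat U).Zt) (x := xU) (U := ⊤) trivial
    exact Opens.mem_iSup.mpr ⟨⟨U, W, hW⟩, xU, hxW, rfl⟩
  · rintro ⟨U, W⟩
    have hker : (dat U).i.ker = (gluedι h).ker.comap (colimit.ι (diagram h) U) := by
      rw [← Scheme.IdealSheafData.ker_fst_of_isClosedImmersion, ← (isPullback_gluedι h U).isoPullback_hom_fst,
        Scheme.Hom.ker_comp_of_isIso]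
    have h2 := congr($(congrArg Scheme.IdealSheafData.ideal (dat U).univ.1.2) W)
    simp only [Scheme.IdealSheafData.ideal_mul, Pi.mul_apply, Scheme.IdealSheafData.ideal_bot, Pi.bot_apply,
      hker, Scheme.IdealSheafData.ideal_comap_of_isOpenImmersion] at h2
    simp only [Scheme.IdealSheafData.ideal_mul, Pi.mul_apply, Scheme.IdealSheafData.ideal_bot, Pi.bot_apply]
    rw [eq_bot_iff] at h2 ⊢
    refine Ideal.mul_le.mpr fun x hx y hy => ?_
    have hbij := ConcreteCategory.bijective_of_isIso ((colimit.ι (diagram h) U).appIso W.1).inv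
    obtain ⟨x', rfl⟩ := hbij.2 x
    obtain ⟨y', rfl⟩ := hbij.2 y
    have h3 := h2 (Ideal.mul_mem_mul (Ideal.mem_comap.mpr hx) (Ideal.mem_comap.mpr hy))
    rw [Ideal.mem_bot] at h3 ⊢
    rw [← map_mul, h3, map_zero]

theorem hom_ext_glued {T T' : Scheme.{u}} {j : T ⟶ T'} (hj : MoreMor.IsFirstOrderThickening j) (a : T ⟶ Z)
    {c c' : T' ⟶ colimit (diagram h)} (h1 : j ≫ c = a ≫ gluedι h) (h2 : j ≫ c' = a ≫ gluedι h)
    (h3 : c ≫ gluedk h = c' ≫ gluedk h) : c = c' := by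
  choose O hO using fun U : Good h => exists_preimage_eq hj (a ⁻¹ᵁ U.1)
  have hcov : ⨆ U, O U = ⊤ := eq_top_iff.mpr fun x _ => by
    obtain ⟨t, rfl⟩ := hj.1.2.surj x
    obtain ⟨U, hU, hd⟩ := exists_datum (h := h) (a t)
    exact Opens.mem_iSup.mpr ⟨⟨U, hd⟩, (hO ⟨U, hd⟩).ge hU⟩
  refine (T'.openCoverOfIsOpenCover O (IsOpenCover.mk hcov)).hom_ext _ _ fun U => ?_
  change (O U).ι ≫ c = (O U).ι ≫ c'
  have hjO := thick_pullback (O U).ι hj
  have hmem : ∀ t, a (pullback.snd (O U).ι j t) ∈ U.1 := fun t => by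
    refine (hO U).le ?_
    show j (pullback.snd (O U).ι j t) ∈ O U
    rw [← Scheme.Hom.comp_apply, ← pullback.condition, Scheme.Hom.comp_apply]
    exact (pullback.fst (O U).ι j t).2
  let aU := IsOpenImmersion.lift U.1.ι (pullback.snd (O U).ι j ≫ a) (by
    rintro _ ⟨t, rfl⟩
    rw [Scheme.Opens.range_ι, Scheme.Hom.comp_apply]
    exact hmem t)
  have haU : aU ≫ U.1.ι = pullback.snd (O U).ι j ≫ a := IsOpenImmersion.lift_fac _ _ _
  have key : ∀ {d : T' ⟶ colimit (diagram h)}, j ≫ d = a ≫ gluedι h →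
      pullback.fst (O U).ι j ≫ (O U).ι ≫ d = (aU ≫ (dat U).i) ≫ colimit.ι (diagram h) U := fun {d} hd => by
    rw [← Category.assoc, pullback.condition, Category.assoc, hd, ← Category.assoc, ← haU, Category.assoc,
      ι_gluedι, Category.assoc]
  have hrange : ∀ {d : T' ⟶ colimit (diagram h)}, j ≫ d = a ≫ gluedι h →
      Set.range ((O U).ι ≫ d) ⊆ Set.range (colimit.ι (diagram h) U) := fun {d} hd => range_subset hjO _ fun t => by
    rw [← Scheme.Hom.comp_apply, key hd, Scheme.Hom.comp_apply]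
    exact Set.mem_range_self _
  obtain ⟨d, hd⟩ : ∃ d, d ≫ colimit.ι (diagram h) U = (O U).ι ≫ c :=
    ⟨_, IsOpenImmersion.lift_fac _ _ (hrange h1)⟩
  obtain ⟨d', hd'⟩ : ∃ d', d' ≫ colimit.ι (diagram h) U = (O U).ι ≫ c' :=
    ⟨_, IsOpenImmersion.lift_fac _ _ (hrange h2)⟩
  have e1 : pullback.fst (O U).ι j ≫ d = aU ≫ (dat U).i := by
    rw [← cancel_mono (colimit.ι (diagram h) U), Category.assoc, hd, key h1]
  have e2 : pullback.fst (O U).ι j ≫ d' = aU ≫ (dat U).i := by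
    rw [← cancel_mono (colimit.ι (diagram h) U), Category.assoc, hd', key h2]
  have e3 : d ≫ (dat U).k = d' ≫ (dat U).k := by
    rw [← ι_gluedk h U, reassoc_of% hd, reassoc_of% hd', h3]
  rw [← hd, ← hd', ((dat U).univ.2.2 _ _ (pullback.fst (O U).ι j) (d ≫ (dat U).k) aU hjO
    (by rw [reassoc_of% e1, (dat U).univ.2.1])).unique ⟨e1, rfl⟩ ⟨e2, e3.symm⟩]

theorem isUnivThickening_glued : OmegaSh.IsUnivThickening h (gluedι h) (gluedk h) := by
  refine ⟨thick_gluedι h, gluedι_gluedk h, fun T T' j b a hj w => ?_⟩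
  choose O hO using fun U : Good h => exists_preimage_eq hj (a ⁻¹ᵁ U.1)
  have hcov : ⨆ U, O U = ⊤ := eq_top_iff.mpr fun x _ => by
    obtain ⟨t, rfl⟩ := hj.1.2.surj x
    obtain ⟨U, hU, hd⟩ := exists_datum (h := h) (a t)
    exact Opens.mem_iSup.mpr ⟨⟨U, hd⟩, (hO ⟨U, hd⟩).ge hU⟩
  have hex : ∀ U : Good h, ∃ c : (O U : Scheme.{u}) ⟶ colimit (diagram h),
      pullback.fst (O U).ι j ≫ c = (pullback.snd (O U).ι j ≫ a) ≫ gluedι h ∧ c ≫ gluedk h = (O U).ι ≫ b := by
    intro U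
    have hmem : ∀ t, a (pullback.snd (O U).ι j t) ∈ U.1 := fun t => by
      refine (hO U).le ?_
      show j (pullback.snd (O U).ι j t) ∈ O U
      rw [← Scheme.Hom.comp_apply, ← pullback.condition, Scheme.Hom.comp_apply]
      exact (pullback.fst (O U).ι j t).2
    let aU := IsOpenImmersion.lift U.1.ι (pullback.snd (O U).ι j ≫ a) (by
      rintro _ ⟨t, rfl⟩
      rw [Scheme.Opens.range_ι, Scheme.Hom.comp_apply]
      exact hmem t)
    have haU : aU ≫ U.1.ι = pullback.snd (O U).ι j ≫ a := IsOpenImmersion.lift_fac _ _ _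
    obtain ⟨d, ⟨hd1, hd2⟩, -⟩ := (dat U).univ.2.2 _ _ (pullback.fst (O U).ι j) ((O U).ι ≫ b) aU
      (thick_pullback _ hj) (by rw [reassoc_of% haU, ← Category.assoc, pullback.condition, Category.assoc, w])
    refine ⟨d ≫ colimit.ι (diagram h) U, ?_, by rw [Category.assoc, ι_gluedk, hd2]⟩
    rw [reassoc_of% hd1, ← ι_gluedι, reassoc_of% haU, Category.assoc]
  choose c hc1 hc2 using hex
  let 𝒱 := T'.openCoverOfIsOpenCover O (IsOpenCover.mk hcov)
  have hglue : ∀ U V, pullback.fst (𝒱.f U) (𝒱.f V) ≫ c U = pullback.snd (𝒱.f U) (𝒱.f V) ≫ c V := by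
    intro U V
    change pullback.fst (O U).ι (O V).ι ≫ c U = pullback.snd (O U).ι (O V).ι ≫ c V
    let p := pullback.fst (O U).ι (O V).ι
    let q := pullback.snd (O U).ι (O V).ι
    let m := p ≫ (O U).ι
    refine hom_ext_glued h (thick_pullback m hj) (pullback.snd m j ≫ a) ?_ ?_ ?_
    · have h1 : pullback.lift (pullback.fst m j ≫ p) (pullback.snd m j)
          (by rw [Category.assoc]; exact pullback.condition) ≫ pullback.fst (O U).ι j = pullback.fst m j ≫ p :=
        pullback.lift_fst _ _ _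
      rw [← reassoc_of% h1, hc1 U, ← Category.assoc, ← Category.assoc]
      congr 2
      exact pullback.lift_snd _ _ _
    · have h1 : pullback.lift (pullback.fst m j ≫ q) (pullback.snd m j)
          (by rw [Category.assoc, ← pullback.condition (f := (O U).ι)]; exact pullback.condition) ≫
            pullback.fst (O V).ι j = pullback.fst m j ≫ q :=
        pullback.lift_fst _ _ _
      rw [← reassoc_of% h1, hc1 V, ← Category.assoc, ← Category.assoc]
      congr 2
      exact pullback.lift_snd _ _ _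
    · rw [Category.assoc, Category.assoc, hc2, hc2, ← Category.assoc, pullback.condition, Category.assoc]
  have hc' : j ≫ 𝒱.glueMorphisms c hglue = a ≫ gluedι h := by
    refine Scheme.Cover.hom_ext (𝒱.pullback₁ j) _ _ fun U => ?_
    change pullback.fst j (O U).ι ≫ _ = pullback.fst j (O U).ι ≫ _
    have hk := congrArg ((pullbackSymmetry j (O U).ι).hom ≫ ·) (hc1 U)
    simp only [← Category.assoc] at hk
    rw [pullbackSymmetry_hom_comp_fst, pullbackSymmetry_hom_comp_snd] at hk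
    rw [← Category.assoc, pullback.condition, Category.assoc,
      show (O U).ι ≫ 𝒱.glueMorphisms c hglue = c U from Scheme.Cover.ι_glueMorphisms 𝒱 c hglue U,
      hk, Category.assoc]
  have hb : 𝒱.glueMorphisms c hglue ≫ gluedk h = b := by
    refine 𝒱.hom_ext _ _ fun U => ?_
    rw [Scheme.Cover.ι_glueMorphisms_assoc]
    exact hc2 U
  exact ⟨_, ⟨hc', hb⟩, fun c' hc'' => hom_ext_glued h hj a hc''.1 hc' (hc''.2.trans hb.symm)⟩

end Main

end Groth.Agent.UnivThick
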