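import Groth.Prelude.Def_Omega3
import Groth.Prelude.Def_MoreMor
import Groth.Agent.FSmooth.Criterion
import Mathlib

/-!
# Universal first order thickenings: base change of thickenings, restriction, the affine case
-/

set_option autoImplicit false
set_option linter.style.haveILetI false

universe u

open CategoryTheory CategoryTheory.Limits AlgebraicGeometry TopologicalSpace

set_option backward.isDefEq.respectTransparency false

namespace Groth.Agent.UnivThick

variable {X Z Z' : Scheme.{u}}

/-- First order thickenings are stable under base change. -/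
theorem thick_of_isPullback {T T' W W' : Scheme.{u}} {j : T ⟶ T'} {k : W ⟶ W'} {p : W ⟶ T} {g : W' ⟶ T'}
    (hsq : IsPullback k p g j) (hj : MoreMor.IsFirstOrderThickening j) : MoreMor.IsFirstOrderThickening k := by
  obtain ⟨⟨hjc, hjs⟩, hjsq⟩ := hj
  have hc : IsClosedImmersion k :=
    MorphismProperty.of_isPullback (P := (@IsClosedImmersion : MorphismProperty Scheme.{u})) hsq.flip hjc
  have hs : Surjective k :=
    MorphismProperty.of_isPullback (P := (@Surjective : MorphismProperty Scheme.{u})) hsq.flip hjs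
  have hker : k.ker = j.ker.comap g := by
    rw [← Scheme.IdealSheafData.ker_fst_of_isClosedImmersion, ← hsq.isoPullback_hom_fst,
      Scheme.Hom.ker_comp_of_isIso]
  exact ⟨⟨hc, hs⟩, by rw [hker]; exact Groth.FSmooth.comap_ker_sq j _ hjsq⟩

theorem thick_pullback {T T' W' : Scheme.{u}} {j : T ⟶ T'} (g : W' ⟶ T') (hj : MoreMor.IsFirstOrderThickening j) :
    MoreMor.IsFirstOrderThickening (pullback.fst g j) :=
  thick_of_isPullback (IsPullback.of_hasPullback g j) hj

/-- Opens of a thickening correspond to opens of the subscheme. -/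
theorem exists_preimage_eq {T T' : Scheme.{u}} {j : T ⟶ T'} (hj : MoreMor.IsFirstOrderThickening j) (W : T.Opens) :
    ∃ O : T'.Opens, j ⁻¹ᵁ O = W := by
  obtain ⟨⟨hjc, -⟩, -⟩ := hj
  refine ⟨⟨(j '' (W : Set T)ᶜ)ᶜ, (j.isClosedEmbedding.isClosedMap _ W.isOpen.isClosed_compl).isOpen_compl⟩, ?_⟩
  refine TopologicalSpace.Opens.ext ?_
  show j ⁻¹' (j '' (W : Set T)ᶜ)ᶜ = (W : Set T)
  rw [Set.preimage_compl, Set.preimage_image_eq _ j.isClosedEmbedding.injective, compl_compl]

/-- A morphism out of a thickening lands in an open as soon as it does so on the subscheme. -/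
theorem range_subset {T T' Y : Scheme.{u}} {j : T ⟶ T'} (hj : MoreMor.IsFirstOrderThickening j) (b : T' ⟶ Y)
    {s : Set Y} (h : ∀ t, b (j t) ∈ s) : Set.range b ⊆ s := by
  rintro _ ⟨t', rfl⟩
  obtain ⟨t, rfl⟩ := hj.1.2.surj t'
  exact h t

/-- An affine first order thickening is cut out by a square zero ideal. -/
theorem exists_ideal {T : Scheme.{u}} {R : CommRingCat.{u}} (j : T ⟶ Spec R) (hj : MoreMor.IsFirstOrderThickening j) :
    ∃ (I : Ideal R) (e : T ≅ Spec (CommRingCat.of (R ⧸ I))),
      I ^ 2 = ⊥ ∧ j = e.hom ≫ Spec.map (CommRingCat.ofHom (Ideal.Quotient.mk I)) := by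
  obtain ⟨⟨hjc, -⟩, hsq⟩ := hj
  obtain ⟨J, e, he⟩ := IsClosedImmersion.Spec_iff.mp hjc
  refine ⟨J, e, ?_, he⟩
  have h' := congr($(congrArg Scheme.IdealSheafData.ideal hsq) ⟨⊤, isAffineOpen_top _⟩)
  simp only [Scheme.IdealSheafData.ideal_mul, Pi.mul_apply, Scheme.IdealSheafData.ideal_bot,
    Pi.bot_apply, Scheme.Hom.ker_apply] at h'
  have key : ∀ x ∈ J, j.appTop ((Scheme.ΓSpecIso R).inv x) = 0 := by
    intro x hx
    have h2 := congr($(Scheme.ΓSpecIso_inv_naturality (CommRingCat.ofHom (Ideal.Quotient.mk J))) x)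
    rw [CommRingCat.comp_apply, CommRingCat.comp_apply, CommRingCat.ofHom_apply,
      Ideal.Quotient.eq_zero_iff_mem.mpr hx, map_zero] at h2
    rw [he, Scheme.Hom.comp_appTop, CommRingCat.comp_apply]; erw [← h2]; exact map_zero _
  rw [pow_two]
  refine eq_bot_iff.mpr (Ideal.mul_le.mpr fun x hx y hy => ?_)
  have h3 := Ideal.mul_mem_mul (RingHom.mem_ker.mpr (key x hx)) (RingHom.mem_ker.mpr (key y hy))
  erw [h'] at h3
  rw [Ideal.mem_bot] at h3 ⊢
  rw [← map_mul] at h3
  exact (Scheme.ΓSpecIso R).commRingCatIsoToRingEquiv.symm.injective (h3.trans (map_zero _).symm)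

section Affine

variable {A B B' : Type u} [CommRing A] [CommRing B] [CommRing B'] [Algebra A B] [Algebra A B']
  (π : B' →ₐ[A] B) (hπ : OmegaSh.IsUnivThickeningRing A B B' π)

local notation "sB" => Spec (CommRingCat.of B)
local notation "hA" => Spec.map (CommRingCat.ofHom (algebraMap A B))
local notation "hA'" => Spec.map (CommRingCat.ofHom (algebraMap A B'))
local notation "iA" => Spec.map (CommRingCat.ofHom π.toRingHom)

include hπ in
/-- The universal property against affine thickenings. -/
theorem existsUnique_affine {T : Scheme.{u}} {R : CommRingCat.{u}} (j : T ⟶ Spec R)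
    (b : Spec R ⟶ Spec (CommRingCat.of A)) (a : T ⟶ sB) (hj : MoreMor.IsFirstOrderThickening j)
    (w : j ≫ b = a ≫ hA) : ∃! c : Spec R ⟶ Spec (CommRingCat.of B'), j ≫ c = a ≫ iA ∧ c ≫ hA' = b := by
  obtain ⟨I, e, hI, rfl⟩ := exists_ideal j hj
  obtain ⟨β, rfl⟩ := Spec.map_surjective b
  obtain ⟨α, hα⟩ := Spec.map_surjective (e.inv ≫ a)
  have ha : a = e.hom ≫ Spec.map α := by rw [hα, e.hom_inv_id_assoc]
  subst ha
  rw [Category.assoc, Category.assoc, cancel_epi, ← Spec.map_comp, ← Spec.map_comp] at w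
  have w' := Spec.map_injective w
  letI : Algebra A R := β.hom.toAlgebra
  have hα' : ∀ x, α.hom (algebraMap A B x) = Ideal.Quotient.mk I (algebraMap A R x) := fun x =>
    (congr(($w') x)).symm
  let α₀ : B →ₐ[A] R ⧸ I := { α.hom with commutes' := hα' }
  obtain ⟨g, hg, hgu⟩ := hπ.2.2 R I hI α₀
  have hg' : ∀ x, Ideal.Quotient.mk I (g x) = α.hom (π x) := fun x => AlgHom.congr_fun hg x
  refine ⟨Spec.map (CommRingCat.ofHom g.toRingHom), ⟨?_, ?_⟩, fun c ⟨hc1, hc2⟩ => ?_⟩
  · rw [Category.assoc, Category.assoc, cancel_epi, ← Spec.map_comp, ← Spec.map_comp]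
    exact congrArg Spec.map (CommRingCat.hom_ext (RingHom.ext fun x => hg' x))
  · rw [← Spec.map_comp]
    exact congrArg Spec.map (CommRingCat.hom_ext (RingHom.ext fun x => g.commutes x))
  · obtain ⟨γ, rfl⟩ := Spec.map_surjective c
    rw [Category.assoc, Category.assoc, cancel_epi, ← Spec.map_comp, ← Spec.map_comp] at hc1
    rw [← Spec.map_comp] at hc2
    let γ₀ : B' →ₐ[A] R := { γ.hom with commutes' := fun x => congr(($(Spec.map_injective hc2)) x) }
    have := hgu γ₀ (AlgHom.ext fun x => congr(($(Spec.map_injective hc1)) x))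
    exact congrArg Spec.map (CommRingCat.hom_ext (RingHom.ext fun x => AlgHom.congr_fun this x))

include hπ in
/-- The spectrum of a universal thickening ring is a universal thickening. -/
theorem isUnivThickening_spec (hi : MoreMor.IsFirstOrderThickening iA) :
    OmegaSh.IsUnivThickening hA iA hA' := by
  refine ⟨hi, ?_, ?_⟩
  · rw [← Spec.map_comp]
    exact congrArg Spec.map (CommRingCat.hom_ext (RingHom.ext fun x => π.commutes x))
  intro T T' j b a hj w
  let 𝒰 := T'.affineCover
  have hloc : ∀ k, ∃! c : 𝒰.X k ⟶ Spec (CommRingCat.of B'),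
      pullback.fst (𝒰.f k) j ≫ c = (pullback.snd (𝒰.f k) j ≫ a) ≫ iA ∧ c ≫ hA' = 𝒰.f k ≫ b := fun k =>
    existsUnique_affine π hπ _ _ _ (thick_pullback (𝒰.f k) hj) (by rw [← Category.assoc, pullback.condition, Category.assoc, w, Category.assoc])
  have huniq : ∀ {S S' : Scheme.{u}} (s : S ⟶ S') (a : S ⟶ sB) (c c' : S' ⟶ Spec (CommRingCat.of B')),
      MoreMor.IsFirstOrderThickening s → s ≫ c = a ≫ iA → s ≫ c' = a ≫ iA → c ≫ hA' = c' ≫ hA' →
      s ≫ c ≫ hA' = a ≫ hA → c = c' := by
    intro S S' s a c c' hs h1 h2 h3 h4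
    refine S'.affineCover.hom_ext _ _ fun k => ?_
    exact (existsUnique_affine π hπ (pullback.fst (S'.affineCover.f k) s) (S'.affineCover.f k ≫ c ≫ hA') (pullback.snd (S'.affineCover.f k) s ≫ a)
      (thick_pullback _ hs) (by rw [← Category.assoc, pullback.condition, Category.assoc, h4, Category.assoc])).unique
      ⟨by rw [← Category.assoc, pullback.condition, Category.assoc, h1, Category.assoc], Category.assoc _ _ _⟩
      ⟨by rw [← Category.assoc, pullback.condition, Category.assoc, h2, Category.assoc], by rw [Category.assoc, h3]⟩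
  choose c hc hcu using hloc
  have hglue : ∀ k l, pullback.fst (𝒰.f k) (𝒰.f l) ≫ c k = pullback.snd (𝒰.f k) (𝒰.f l) ≫ c l := by
    intro k l
    let p := pullback.fst (𝒰.f k) (𝒰.f l)
    let q := pullback.snd (𝒰.f k) (𝒰.f l)
    let m := p ≫ 𝒰.f k
    refine huniq (pullback.fst m j) (pullback.snd m j ≫ a) _ _ (thick_pullback m hj) ?_ ?_ ?_ ?_
    · let v : pullback m j ⟶ pullback (𝒰.f k) j :=
        pullback.lift (pullback.fst m j ≫ p) (pullback.snd m j) (by rw [Category.assoc]; exact pullback.condition)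
      have h1 : v ≫ pullback.fst (𝒰.f k) j = pullback.fst m j ≫ p := pullback.lift_fst _ _ _
      rw [← reassoc_of% h1, (hc k).1, ← Category.assoc, ← Category.assoc]
      congr 2
      exact pullback.lift_snd _ _ _
    · let v : pullback m j ⟶ pullback (𝒰.f l) j :=
        pullback.lift (pullback.fst m j ≫ q) (pullback.snd m j) (by
          rw [Category.assoc, ← pullback.condition (f := 𝒰.f k)]; exact pullback.condition)
      have h1 : v ≫ pullback.fst (𝒰.f l) j = pullback.fst m j ≫ q := pullback.lift_fst _ _ _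
      rw [← reassoc_of% h1, (hc l).1, ← Category.assoc, ← Category.assoc]
      congr 2
      exact pullback.lift_snd _ _ _
    · rw [Category.assoc, Category.assoc, (hc k).2, (hc l).2, pullback.condition_assoc]
    · rw [Category.assoc, (hc k).2, ← Category.assoc p]
      change pullback.fst m j ≫ m ≫ b = _
      rw [pullback.condition_assoc, w, Category.assoc]
  refine ⟨𝒰.glueMorphisms c hglue, ⟨?_, ?_⟩, fun c' ⟨h1, h2⟩ => ?_⟩
  · refine Scheme.Cover.hom_ext (𝒰.pullback₁ j) _ _ fun k => ?_
    change pullback.fst j (𝒰.f k) ≫ _ = pullback.fst j (𝒰.f k) ≫ _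
    have hk := congrArg ((pullbackSymmetry j (𝒰.f k)).hom ≫ ·) (hc k).1
    simp only [← Category.assoc] at hk
    rw [pullbackSymmetry_hom_comp_fst, pullbackSymmetry_hom_comp_snd] at hk
    rw [← Category.assoc, pullback.condition, Category.assoc, Scheme.Cover.ι_glueMorphisms, hk, Category.assoc]
  · refine 𝒰.hom_ext _ _ fun k => ?_
    rw [Scheme.Cover.ι_glueMorphisms_assoc]
    exact (hc k).2
  · refine 𝒰.hom_ext _ _ fun k => ?_
    rw [Scheme.Cover.ι_glueMorphisms]
    exact hcu k _ ⟨by rw [← Category.assoc, pullback.condition, Category.assoc, h1, Category.assoc], by rw [Category.assoc, h2]⟩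

end Affine

end Groth.Agent.UnivThick
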